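import Mathlib

set_option autoImplicit false
universe u

namespace NoetherCharPLib

open MvPolynomial

/-- `f` has degree at most `d` with coefficient `a` in degree `d`. -/
def Top {R : Type*} [CommRing R] (f : Polynomial R) (d : ℕ) (a : R) : Prop :=
  f.natDegree ≤ d ∧ f.coeff d = a

theorem Top.mul {R : Type*} [CommRing R] {f g : Polynomial R} {d e : ℕ} {a b : R}
    (hf : Top f d a) (hg : Top g e b) : Top (f * g) (d + e) (a * b) :=
  ⟨Polynomial.natDegree_mul_le.trans (add_le_add hf.1 hg.1),
    by rw [Polynomial.coeff_mul_add_eq_of_natDegree_le hf.1 hg.1, hf.2, hg.2]⟩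

theorem Top.pow {R : Type*} [CommRing R] {f : Polynomial R} {d : ℕ} {a : R}
    (hf : Top f d a) (m : ℕ) : Top (f ^ m) (m * d) (a ^ m) :=
  ⟨Polynomial.natDegree_pow_le.trans (Nat.mul_le_mul_left _ hf.1),
    by rw [Polynomial.coeff_pow_of_natDegree_le hf.1, hf.2]⟩

theorem Top.prod {R : Type*} [CommRing R] {ι : Type*} (s : Finset ι) {f : ι → Polynomial R}
    {d : ι → ℕ} {a : ι → R} (hf : ∀ i ∈ s, Top (f i) (d i) (a i)) :
    Top (∏ i ∈ s, f i) (∑ i ∈ s, d i) (∏ i ∈ s, a i) := by
  classical
  induction s using Finset.induction with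
  | empty => simp [Top]
  | insert i t hi ih =>
    rw [Finset.prod_insert hi, Finset.sum_insert hi, Finset.prod_insert hi]
    exact (hf i (Finset.mem_insert_self _ _)).mul (ih fun j hj => hf j (Finset.mem_insert_of_mem hj))

theorem weight_injective {n N : ℕ} : ∀ (v w : Fin n → ℕ), (∀ i, v i < N) → (∀ i, w i < N) →
    ∑ i, v i * N ^ (i : ℕ) = ∑ i, w i * N ^ (i : ℕ) → v = w := by
  induction n with
  | zero => intro v w _ _ _; exact funext fun i => i.elim0
  | succ n ih =>
    intro v w hv hw h
    rw [Fin.sum_univ_succ, Fin.sum_univ_succ] at h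
    simp only [Fin.val_zero, pow_zero, mul_one, Fin.val_succ, pow_succ, ← mul_assoc] at h
    rw [← Finset.sum_mul, ← Finset.sum_mul] at h
    have hN : 0 < N := lt_of_le_of_lt (Nat.zero_le _) (hv 0)
    have h0 : v 0 = w 0 := by
      have := congrArg (· % N) h
      simpa [Nat.add_mul_mod_self_right, Nat.mod_eq_of_lt (hv 0), Nat.mod_eq_of_lt (hw 0)] using this
    rw [h0, add_left_cancel_iff] at h
    have := ih (fun i => v i.succ) (fun i => w i.succ) (fun i => hv _) (fun i => hw _)
      (Nat.eq_of_mul_eq_mul_right hN h)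
    funext i
    cases i using Fin.cases with
    | zero => exact h0
    | succ j => exact congrFun this j

/-- One step of Noether normalisation: if `(y, x₁, …, xₙ)` satisfy a nonzero polynomial relation,
then `y` is integral over `k[x₁ + y ^ e₁, …, xₙ + y ^ eₙ]` for suitable exponents divisible by
any given positive `p`. -/
theorem exists_shift_isIntegral {k C : Type u} [Field k] [CommRing C] [Algebra k C] {n : ℕ}
    (p : ℕ) (hp : 0 < p) (x : Fin n → C) (y : C) (Q : MvPolynomial (Option (Fin n)) k) (hQ : Q ≠ 0)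
    (hQ0 : aeval (fun o => o.elim y x) Q = 0) :
    ∃ e : Fin n → ℕ, (∀ i, p ∣ e i) ∧
      IsIntegral (Algebra.adjoin k (Set.range fun i => x i + y ^ e i)) y := by
  classical
  let N := Q.totalDegree + 1
  let e : Fin n → ℕ := fun i => p * N ^ ((i : ℕ) + 1)
  refine ⟨e, fun i => dvd_mul_right _ _, ?_⟩
  let S := Algebra.adjoin k (Set.range fun i => x i + y ^ e i)
  let x' : Fin n → S := fun i => ⟨x i + y ^ e i, Algebra.subset_adjoin ⟨i, rfl⟩⟩
  let wt : (Option (Fin n) →₀ ℕ) → ℕ := fun v => v none + ∑ i, v (some i) * e i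
  let g : (Option (Fin n) →₀ ℕ) → Polynomial S := fun v =>
    Polynomial.C (algebraMap k S (Q.coeff v)) * Polynomial.X ^ v none *
      ∏ i, (Polynomial.C (x' i) - Polynomial.X ^ e i) ^ v (some i)
  have hlt : ∀ v ∈ Q.support, ∀ o, v o < N := fun v hv o =>
    Nat.lt_succ_of_le ((monomial_le_degreeOf o hv).trans (degreeOf_le_totalDegree Q o))
  have hN : 0 < N := Nat.succ_pos _
  have hwt : ∀ v ∈ Q.support, ∀ w ∈ Q.support, wt v = wt w → v = w := by
    intro v hv w hw h
    have key : ∀ u : Option (Fin n) →₀ ℕ,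
        wt u = u none + p * N * ∑ i : Fin n, u (some i) * N ^ (i : ℕ) := by
      intro u
      simp only [wt, e, Finset.mul_sum, pow_succ]
      congr 1
      exact Finset.sum_congr rfl fun i _ => by ring
    rw [key, key] at h
    have hpN : ∀ u ∈ Q.support, u none < p * N := fun u hu =>
      (hlt u hu none).trans_le (Nat.le_mul_of_pos_left _ hp)
    have h0 : v none = w none := by
      have := congrArg (· % (p * N)) h
      simpa [Nat.add_mul_mod_self_left, Nat.mod_eq_of_lt (hpN v hv), Nat.mod_eq_of_lt (hpN w hw)]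
        using this
    rw [h0, add_left_cancel_iff] at h
    have hfun := weight_injective (fun i => v (some i)) (fun i => w (some i)) (fun i => hlt v hv _)
      (fun i => hlt w hw _) (Nat.eq_of_mul_eq_mul_left (Nat.mul_pos hp hN) h)
    ext o
    cases o with
    | none => exact h0
    | some i => exact congrFun hfun i
  have hg : ∀ v, Top (g v) (wt v)
      (algebraMap k S (Q.coeff v) * ∏ i : Fin n, (-1 : S) ^ v (some i)) := by
    intro v
    have h1 : Top (Polynomial.C (algebraMap k S (Q.coeff v)) * Polynomial.X ^ v none) (v none)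
        (algebraMap k S (Q.coeff v)) :=
      ⟨Polynomial.natDegree_C_mul_X_pow_le _ _, by simp⟩
    refine h1.mul (Top.prod _ fun i _ => ?_)
    have he : e i ≠ 0 := (Nat.mul_pos hp (pow_pos hN _)).ne'
    refine Top.pow ⟨?_, ?_⟩ _
    · refine (Polynomial.natDegree_sub_le _ _).trans (max_le ?_ ?_)
      · simp
      · exact Polynomial.natDegree_X_pow_le _
    · simp [Polynomial.coeff_C, he]
  obtain ⟨v₀, hv₀, hmax⟩ := Q.support.exists_max_image wt (support_nonempty.mpr hQ)
  let F : Polynomial S := ∑ v ∈ Q.support, g v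
  have hdeg : F.natDegree ≤ wt v₀ :=
    Polynomial.natDegree_sum_le_of_forall_le _ _ fun v hv => (hg v).1.trans (hmax v hv)
  have hc : IsUnit (F.coeff (wt v₀)) := by
    rw [Polynomial.finset_sum_coeff, Finset.sum_eq_single_of_mem v₀ hv₀, (hg v₀).2]
    · refine IsUnit.mul ((IsUnit.mk0 _ (mem_support_iff.mp hv₀)).map _) ?_
      exact IsUnit.prod_univ_iff.mpr fun i => (isUnit_one.neg).pow _
    · intro v hv hne
      refine Polynomial.coeff_eq_zero_of_natDegree_lt ((hg v).1.trans_lt ?_)
      exact lt_of_le_of_ne (hmax v hv) fun h => hne (hwt v hv v₀ hv₀ h)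
  obtain ⟨c, hc⟩ := hc
  refine ⟨Polynomial.C (↑c⁻¹ : S) * F, ?_, ?_⟩
  · refine Polynomial.monic_of_natDegree_le_of_coeff_eq_one (wt v₀)
      ((Polynomial.natDegree_C_mul_le _ _).trans hdeg) ?_
    rw [Polynomial.coeff_C_mul, ← hc, Units.inv_mul]
  · have hF : Polynomial.eval₂ (algebraMap S C) y F = 0 := by
      rw [← hQ0]
      conv_rhs => rw [Q.as_sum]
      rw [Polynomial.eval₂_finsetSum, map_sum]
      refine Finset.sum_congr rfl fun v _ => ?_
      rw [aeval_monomial, Finsupp.prod_fintype _ _ fun _ => pow_zero _, Fintype.prod_option]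
      simp only [g, Polynomial.eval₂_mul, Polynomial.eval₂_finsetProd, Polynomial.eval₂_pow,
        Polynomial.eval₂_sub, Polynomial.eval₂_C, Polynomial.eval₂_X, Option.elim, x']
      rw [← IsScalarTower.algebraMap_apply k S C, mul_assoc]
      congr 2
      refine Finset.prod_congr rfl fun i _ => ?_
      congr 1
      exact add_sub_cancel_right (x i) _
    rw [Polynomial.eval₂_mul, hF, mul_zero]

/-- Eliminate extra generators: shift `x` without changing its differentials. -/
theorem exists_integral_shift {k C : Type u} [Field k] [CommRing C] [Algebra k C] {n : ℕ}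
    (p : ℕ) (hp : 0 < p) (hpC : (p : C) = 0)
    (hdep : ∀ z : Option (Fin n) → C, ∃ Q : MvPolynomial (Option (Fin n)) k, Q ≠ 0 ∧ aeval z Q = 0)
    (s : Finset C) : ∀ x : Fin n → C,
    (∀ c : C, IsIntegral (Algebra.adjoin k (Set.range x ∪ (s : Set C))) c) →
    ∃ x' : Fin n → C, (∀ i, KaehlerDifferential.D k C (x' i) = KaehlerDifferential.D k C (x i)) ∧
      ∀ c : C, IsIntegral (Algebra.adjoin k (Set.range x')) c := by
  classical
  induction s using Finset.induction with
  | empty =>
    intro x hx
    refine ⟨x, fun i => rfl, fun c => ?_⟩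
    have := hx c
    rw [Finset.coe_empty, Set.union_empty] at this
    exact this
  | insert y t _ ih =>
    intro x hx
    obtain ⟨Q, hQ, hQ0⟩ := hdep (fun o => o.elim y x)
    obtain ⟨e, he, hy⟩ := exists_shift_isIntegral p hp x y Q hQ hQ0
    let x' : Fin n → C := fun i => x i + y ^ e i
    let B' := Algebra.adjoin k (Set.range x' ∪ (t : Set C))
    let A := integralClosure B' C
    have hyA : y ∈ A := by
      obtain ⟨P, hP, hP0⟩ := hy
      have hsub : Algebra.adjoin k (Set.range x') ≤ B' := Algebra.adjoin_mono Set.subset_union_left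
      refine ⟨P.map (Subalgebra.inclusion hsub).toRingHom, hP.map _, ?_⟩
      rw [Polynomial.eval₂_map]
      exact hP0
    have hB'A : ∀ b ∈ B', b ∈ A := fun b hb => Subalgebra.algebraMap_mem A ⟨b, hb⟩
    have hle : Algebra.adjoin k (Set.range x ∪ (↑(insert y t) : Set C)) ≤ A.restrictScalars k := by
      rw [Algebra.adjoin_le_iff, Finset.coe_insert]
      rintro c (⟨i, rfl⟩ | rfl | hc)
      · have h1 : x' i ∈ A := hB'A _ (Algebra.subset_adjoin (Or.inl ⟨i, rfl⟩))
        have h2 := A.sub_mem h1 (A.pow_mem hyA (e i))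
        rwa [add_sub_cancel_right] at h2
      · exact hyA
      · exact hB'A _ (Algebra.subset_adjoin (Or.inr hc))
    have hint : ∀ c : C, IsIntegral B' c := fun c => by
      obtain ⟨P, hP, hP0⟩ := hx c
      have : IsIntegral A c := ⟨P.map (Subalgebra.inclusion hle).toRingHom, hP.map _, by
        rw [Polynomial.eval₂_map]; exact hP0⟩
      exact isIntegral_trans (R := B') c this
    obtain ⟨x'', hD, hx''⟩ := ih x' hint
    refine ⟨x'', fun i => (hD i).trans ?_, hx''⟩
    obtain ⟨m, hm⟩ := he i
    show KaehlerDifferential.D k C (x i + y ^ e i) = _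
    rw [map_add, Derivation.leibniz_pow, hm, ← Nat.cast_smul_eq_nsmul C, Nat.cast_mul, hpC,
      zero_mul, zero_smul, add_zero]

/-- A map from the polynomial ring to a smooth algebra is formally étale once the differentials
of the variables form a basis. -/
theorem formallyEtale_of_basis {k C : Type u} [CommRing k] [CommRing C] [Algebra k C] {n : ℕ}
    [Algebra (MvPolynomial (Fin n) k) C] [IsScalarTower k (MvPolynomial (Fin n) k) C]
    [Algebra.FormallySmooth k C] (b : Module.Basis (Fin n) C (KaehlerDifferential k C))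
    (hb : ∀ i, b i = KaehlerDifferential.D k C (algebraMap (MvPolynomial (Fin n) k) C (X i))) :
    Algebra.FormallyEtale (MvPolynomial (Fin n) k) C := by
  have heq : KaehlerDifferential.mapBaseChange k (MvPolynomial (Fin n) k) C =
      (((KaehlerDifferential.mvPolynomialBasis k (Fin n)).baseChange C).equiv b
        (Equiv.refl _)).toLinearMap := by
    refine ((KaehlerDifferential.mvPolynomialBasis k (Fin n)).baseChange C).ext fun i => ?_
    rw [LinearEquiv.coe_coe, Module.Basis.equiv_apply, Equiv.refl_apply,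
      Module.Basis.baseChange_apply, KaehlerDifferential.mapBaseChange_tmul, one_smul, hb]
    have hX : KaehlerDifferential.mvPolynomialBasis k (Fin n) i =
        KaehlerDifferential.D k (MvPolynomial (Fin n) k) (X i) := by
      rw [← Module.Basis.repr_symm_single_one,
        KaehlerDifferential.mvPolynomialBasis_repr_symm_single, one_smul]
    rw [hX, KaehlerDifferential.map_D]
  have hbij : Function.Bijective (KaehlerDifferential.mapBaseChange k (MvPolynomial (Fin n) k) C) := by
    rw [heq]; exact LinearEquiv.bijective _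
  have hO : Subsingleton (KaehlerDifferential (MvPolynomial (Fin n) k) C) := by
    refine subsingleton_of_forall_eq 0 fun z => ?_
    obtain ⟨w, rfl⟩ := KaehlerDifferential.map_surjective k (MvPolynomial (Fin n) k) C z
    obtain ⟨a, rfl⟩ := hbij.2 w
    exact (KaehlerDifferential.exact_mapBaseChange_map k (MvPolynomial (Fin n) k) C _).mpr ⟨a, rfl⟩
  have hH : Subsingleton (Algebra.H1Cotangent (MvPolynomial (Fin n) k) C) := by
    refine subsingleton_of_forall_eq 0 fun z => ?_
    have h1 : Algebra.H1Cotangent.δ k (MvPolynomial (Fin n) k) C z = 0 := by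
      refine hbij.1 ?_
      rw [(Algebra.H1Cotangent.exact_δ_mapBaseChange k (MvPolynomial (Fin n) k) C).apply_apply_eq_zero,
        map_zero]
    obtain ⟨w, rfl⟩ := (Algebra.H1Cotangent.exact_map_δ k (MvPolynomial (Fin n) k) C z).mp h1
    rw [Subsingleton.elim w 0, map_zero]
  exact ⟨hO, hH⟩

/-- `aeval x` is finite étale if `C` is integral over `k[x]` and the `dxᵢ` form a basis. -/
theorem finite_etale_of_basis {k C : Type u} [Field k] [CommRing C] [Algebra k C] {n : ℕ}
    [Algebra.FiniteType k C] [Algebra.FormallySmooth k C] (x : Fin n → C)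
    (b : Module.Basis (Fin n) C (KaehlerDifferential k C))
    (hb : ∀ i, b i = KaehlerDifferential.D k C (x i))
    (hint : ∀ c : C, IsIntegral (Algebra.adjoin k (Set.range x)) c) :
    (aeval x : MvPolynomial (Fin n) k →ₐ[k] C).toRingHom.Finite ∧
      (aeval x : MvPolynomial (Fin n) k →ₐ[k] C).toRingHom.Etale := by
  letI : Algebra (MvPolynomial (Fin n) k) C :=
    (aeval x : MvPolynomial (Fin n) k →ₐ[k] C).toRingHom.toAlgebra
  haveI : IsScalarTower k (MvPolynomial (Fin n) k) C := IsScalarTower.of_algebraMap_eq fun r =>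
    ((aeval x : MvPolynomial (Fin n) k →ₐ[k] C).commutes r).symm
  haveI : Algebra.IsIntegral (MvPolynomial (Fin n) k) C := by
    refine ⟨fun c => ?_⟩
    let f := (aeval x : MvPolynomial (Fin n) k →ₐ[k] C).rangeRestrict
    obtain ⟨P, hP, hP0⟩ := hint c
    have hle : Algebra.adjoin k (Set.range x) ≤ (aeval x : MvPolynomial (Fin n) k →ₐ[k] C).range :=
      (Algebra.adjoin_range_eq_range_aeval k x).le
    have hc : RingHom.IsIntegralElem
        ((aeval x : MvPolynomial (Fin n) k →ₐ[k] C).range.val.toRingHom) c :=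
      ⟨P.map (Subalgebra.inclusion hle).toRingHom, hP.map _, by
        rw [Polynomial.eval₂_map]; exact hP0⟩
    obtain ⟨P', hP', hP'0⟩ := hc
    obtain ⟨G, hG, -, hGm⟩ := Polynomial.lifts_and_natDegree_eq_and_monic
      ((Polynomial.mem_lifts _).mpr (Polynomial.map_surjective f.toRingHom
        (aeval x : MvPolynomial (Fin n) k →ₐ[k] C).rangeRestrict_surjective P')) hP'
    refine ⟨G, hGm, ?_⟩
    rw [← hG, Polynomial.eval₂_map] at hP'0
    exact hP'0
  haveI : Algebra.FiniteType (MvPolynomial (Fin n) k) C :=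
    Algebra.FiniteType.of_restrictScalars_finiteType k (MvPolynomial (Fin n) k) C
  haveI : Module.Finite (MvPolynomial (Fin n) k) C := Algebra.IsIntegral.finite
  haveI : Algebra.FormallyEtale (MvPolynomial (Fin n) k) C := formallyEtale_of_basis b fun i => by
    rw [hb, RingHom.algebraMap_toAlgebra]
    exact congrArg _ (aeval_X x i).symm
  haveI : Algebra.FinitePresentation (MvPolynomial (Fin n) k) C :=
    Algebra.FinitePresentation.of_finiteType.mp inferInstance
  refine ⟨(inferInstance : Module.Finite (MvPolynomial (Fin n) k) C), ?_⟩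
  exact RingHom.etale_algebraMap.mpr
    (⟨inferInstance, inferInstance⟩ : Algebra.Etale (MvPolynomial (Fin n) k) C)

/-- In an algebra étale over `k[x₁,…,xₙ]`, any `n + 1` elements are algebraically dependent. -/
theorem exists_relation {k C : Type u} [Field k] [CommRing C] {n : ℕ}
    [Algebra (MvPolynomial (Fin n) k) C] [Algebra k C] [IsScalarTower k (MvPolynomial (Fin n) k) C]
    [Algebra.Etale (MvPolynomial (Fin n) k) C] (z : Option (Fin n) → C) :
    ∃ Q : MvPolynomial (Option (Fin n)) k, Q ≠ 0 ∧ aeval z Q = 0 := by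
  classical
  haveI : IsNoetherianRing C := Algebra.FiniteType.isNoetherianRing (MvPolynomial (Fin n) k) C
  have key : ∀ q ∈ minimalPrimes C,
      ∃ Q : MvPolynomial (Option (Fin n)) k, Q ≠ 0 ∧ aeval z Q ∈ q := by
    intro q hq
    haveI : q.IsPrime := hq.1.1
    have hbot : q.under (MvPolynomial (Fin n) k) = ⊥ := by
      obtain ⟨P', hP', hP'p, hover⟩ := Ideal.exists_ideal_le_liesOver_of_le q
        (q := q.under (MvPolynomial (Fin n) k))
        (bot_le : (⊥ : Ideal (MvPolynomial (Fin n) k)) ≤ _)
      haveI := hP'p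
      have : P' = q := le_antisymm hP' (hq.2 ⟨hP'p, bot_le⟩ hP')
      rw [← this]
      exact hover.over.symm
    have hinj : Function.Injective (algebraMap (MvPolynomial (Fin n) k) (C ⧸ q)) := by
      rw [injective_iff_map_eq_zero]
      intro a ha
      rw [IsScalarTower.algebraMap_apply (MvPolynomial (Fin n) k) C (C ⧸ q)] at ha
      have : a ∈ q.under (MvPolynomial (Fin n) k) := (Ideal.Quotient.eq_zero_iff_mem.mp ha : algebraMap (MvPolynomial (Fin n) k) C a ∈ q)
      rwa [hbot, Ideal.mem_bot] at this
    haveI : FaithfulSMul (MvPolynomial (Fin n) k) (C ⧸ q) :=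
      (faithfulSMul_iff_algebraMap_injective _ _).mpr hinj
    have halg : Algebra.IsAlgebraic (MvPolynomial (Fin n) k) (C ⧸ q) := by
      let K := FractionRing (MvPolynomial (Fin n) k)
      let L := FractionRing (C ⧸ q)
      letI : Algebra K L := FractionRing.liftAlgebra _ _
      haveI : Algebra.QuasiFinite (MvPolynomial (Fin n) k) L :=
        Algebra.QuasiFinite.of_isLocalization (nonZeroDivisors (C ⧸ q))
      haveI : Algebra.QuasiFinite K L :=
        Algebra.QuasiFinite.of_restrictScalars (MvPolynomial (Fin n) k) K L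
      haveI : Module.Finite K L := Module.Finite.of_quasiFinite
      haveI : Algebra.IsAlgebraic (MvPolynomial (Fin n) k) L :=
        (IsFractionRing.comap_isAlgebraic_iff (K := K)).mpr inferInstance
      exact Algebra.IsAlgebraic.of_injective (IsScalarTower.toAlgHom _ (C ⧸ q) L)
        (IsFractionRing.injective _ _)
    have htr : Algebra.trdeg k (C ⧸ q) = (n : Cardinal) := by
      rw [← trdeg_add_eq k (MvPolynomial (Fin n) k) (A := C ⧸ q),
        trdeg_eq_zero (R := MvPolynomial (Fin n) k) (A := C ⧸ q), MvPolynomial.trdeg_of_isDomain,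
        add_zero]
      simp
    by_contra hcon
    push_neg at hcon
    have hz : AlgebraicIndependent k (fun o => Ideal.Quotient.mkₐ k q (z o)) := by
      rw [algebraicIndependent_iff]
      intro Q hQ
      by_contra hQne
      apply hcon Q hQne
      rw [← Ideal.Quotient.eq_zero_iff_mem, ← Ideal.Quotient.mkₐ_eq_mk k]
      rw [comp_aeval_apply]
      exact hQ
    have := hz.lift_cardinalMk_le_trdeg
    rw [htr, Cardinal.mk_fintype, Fintype.card_option, Fintype.card_fin, Cardinal.lift_natCast,
      Cardinal.lift_natCast] at this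
    have := Nat.cast_le.mp this
    omega
  choose Q hQne hQmem using key
  have hfin : (minimalPrimes C).Finite := minimalPrimes.finite_of_isNoetherianRing C
  let T := hfin.toFinset
  let R : MvPolynomial (Option (Fin n)) k :=
    ∏ q ∈ T.attach, Q q.1 (hfin.mem_toFinset.mp q.2)
  have hR : aeval z R ∈ (⊥ : Ideal C).radical := by
    rw [← Ideal.sInf_minimalPrimes]
    refine Submodule.mem_sInf.mpr fun q hq => ?_
    have hqm : q ∈ minimalPrimes C := hq
    simp only [R, map_prod]
    obtain ⟨d, hd⟩ := Finset.dvd_prod_of_mem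
      (fun q : T => aeval z (Q q.1 (hfin.mem_toFinset.mp q.2)))
      (Finset.mem_attach T ⟨q, hfin.mem_toFinset.mpr hqm⟩)
    rw [hd]
    exact Ideal.mul_mem_right _ _ (hQmem q hqm)
  obtain ⟨m, hm⟩ := hR
  refine ⟨R ^ m, pow_ne_zero _ (Finset.prod_ne_zero_iff.mpr fun q _ => hQne _ _), ?_⟩
  rw [map_pow]
  exact Ideal.mem_bot.mp hm

end NoetherCharPLib
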